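import Mathlib

namespace Cfsg.Agent.Lib.Helper23.N21

open MulAction Subgroup

/-- An even permutation of square one moves a number of points divisible by four. -/
theorem four_dvd_sum_cycleType {α : Type*} [Fintype α] [DecidableEq α] (σ : Equiv.Perm α)
    (h2 : σ ^ 2 = 1) (hs : Equiv.Perm.sign σ = 1) : 4 ∣ σ.cycleType.sum := by
  have hall : ∀ b ∈ σ.cycleType, b = 2 := by
    intro b hb
    have h1 : b ∣ orderOf σ := Equiv.Perm.dvd_of_mem_cycleType hb
    have h3 : orderOf σ ∣ 2 := orderOf_dvd_of_pow_eq_one h2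
    have h4 : 2 ≤ b := Equiv.Perm.two_le_of_mem_cycleType hb
    exact le_antisymm (Nat.le_of_dvd (by norm_num) (h1.trans h3)) h4
  have hrep : σ.cycleType = Multiset.replicate (Multiset.card σ.cycleType) 2 :=
    Multiset.eq_replicate.mpr ⟨rfl, hall⟩
  set m := Multiset.card σ.cycleType with hm
  have hsum : σ.cycleType.sum = 2 * m := by
    rw [hrep, Multiset.sum_replicate, smul_eq_mul, mul_comm]
  rw [Equiv.Perm.sign_of_cycleType, hsum, ← hm] at hs
  have h3 : (2 * m + m) = 3 * m := by ring
  rw [h3] at hs
  have hev : Even (3 * m) := by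
    by_contra hodd
    rw [Nat.not_even_iff_odd] at hodd
    rw [hodd.neg_one_pow] at hs
    exact absurd hs (by decide)
  have hm2 : Even m := by
    rcases Nat.even_mul.mp hev with h | h
    · exact absurd h (by decide)
    · exact h
  obtain ⟨t, ht⟩ := hm2
  rw [hsum, ht]
  exact ⟨t, by ring⟩

/-- If an element `u` with `u ^ 2 = 1` acts as an even permutation, the number of its fixed
points is congruent to the size of the set modulo four. -/
theorem card_fixedBy_add {G : Type*} [Group G] {X : Type*} [MulAction G X] [Fintype X]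
    [DecidableEq X] (u : G) (h2 : u ^ 2 = 1)
    (hs : Equiv.Perm.sign (MulAction.toPerm u : Equiv.Perm X) = 1) :
    ∃ t : ℕ, Nat.card (fixedBy X u) + 4 * t = Fintype.card X := by
  set σ : Equiv.Perm X := MulAction.toPerm u with hσ
  have hσ2 : σ ^ 2 = 1 := by
    apply Equiv.ext
    intro x
    rw [pow_two, Equiv.Perm.mul_apply, hσ, MulAction.toPerm_apply, MulAction.toPerm_apply,
      smul_smul, ← pow_two, h2, one_smul, Equiv.Perm.one_apply]
  have h4 := four_dvd_sum_cycleType σ hσ2 hs
  have hfix : Fintype.card (Function.fixedPoints σ) = Fintype.card X - σ.cycleType.sum :=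
    Equiv.Perm.card_fixedPoints σ
  have hle : σ.cycleType.sum ≤ Fintype.card X := Equiv.Perm.sum_cycleType_le σ
  have heq : Nat.card (fixedBy X u) = Fintype.card (Function.fixedPoints σ) := by
    rw [Nat.card_eq_fintype_card]
    apply Fintype.card_congr
    apply Equiv.setCongr
    ext x
    simp [Function.mem_fixedPoints, Function.IsFixedPt, hσ]
  obtain ⟨t, ht⟩ := h4
  refine ⟨t, ?_⟩
  rw [heq, hfix]
  omega

end Cfsg.Agent.Lib.Helper23.N21
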