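import Mathlib
import Cfsg.Agent.Lib.Helper23.N21.Parity

namespace Cfsg.Agent.Lib.Helper23.N21

open MulAction Subgroup

theorem fact5 : Fact (Nat.Prime 5) := ⟨by norm_num⟩

attribute [local instance] fact5

variable {G : Type*} [Group G] [Finite G]

/-- In a simple group with `21` Sylow `5`-subgroups, only the identity fixes them all. -/
theorem eq_one_of_forall_smul [IsSimpleGroup G] (h21 : Nat.card (Sylow 5 G) = 21) (g : G)
    (hg : ∀ Q : Sylow 5 G, g • Q = Q) : g = 1 := by
  have hn : (MulAction.toPermHom G (Sylow 5 G)).ker.Normal := MonoidHom.normal_ker _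
  rcases hn.eq_bot_or_eq_top with h | h
  · have : g ∈ (MulAction.toPermHom G (Sylow 5 G)).ker := by
      rw [MonoidHom.mem_ker]
      ext Q
      simp [hg Q]
    rw [h] at this
    exact Subgroup.mem_bot.mp this
  · exfalso
    have hall : ∀ (x : G) (Q : Sylow 5 G), x • Q = Q := by
      intro x Q
      have hx : x ∈ (MulAction.toPermHom G (Sylow 5 G)).ker := by rw [h]; trivial
      rw [MonoidHom.mem_ker] at hx
      have := congrArg (fun e : Equiv.Perm (Sylow 5 G) => e Q) hx
      simpa using this
    obtain ⟨P⟩ : Nonempty (Sylow 5 G) := inferInstance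
    have huniq : ∀ Q : Sylow 5 G, Q = P := by
      intro Q
      obtain ⟨x, rfl⟩ := MulAction.exists_smul_eq G P Q
      exact hall x P
    have : Nat.card (Sylow 5 G) = 1 := by
      rw [Nat.card_eq_one_iff_unique]
      exact ⟨⟨fun a b => (huniq a).trans (huniq b).symm⟩, ⟨P⟩⟩
    omega

/-- `21` divides the order. -/
theorem dvd_card_of_card_sylow (h21 : Nat.card (Sylow 5 G) = 21) : 21 ∣ Nat.card G := by
  obtain ⟨P⟩ : Nonempty (Sylow 5 G) := inferInstance
  rw [← h21, Sylow.card_eq_index_normalizer P]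
  exact Subgroup.index_dvd_card _

/-- In a simple group with `21` Sylow `5`-subgroups every element acts on them as an even
permutation. -/
theorem sign_toPerm_eq_one [IsSimpleGroup G] [Fintype (Sylow 5 G)] [DecidableEq (Sylow 5 G)]
    (h21 : Nat.card (Sylow 5 G) = 21) (g : G) :
    Equiv.Perm.sign (MulAction.toPerm g : Equiv.Perm (Sylow 5 G)) = 1 := by
  set f : G →* ℤˣ := (Equiv.Perm.sign).comp (MulAction.toPermHom G (Sylow 5 G)) with hf
  have hn : f.ker.Normal := MonoidHom.normal_ker _
  rcases hn.eq_bot_or_eq_top with h | h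
  · exfalso
    have hinj : Function.Injective f := (MonoidHom.ker_eq_bot_iff f).mp h
    have h1 : Nat.card G ≤ Nat.card ℤˣ := Nat.card_le_card_of_injective f hinj
    have h2 : Nat.card ℤˣ = 2 := by
      rw [Nat.card_eq_fintype_card]; rfl
    have h3 := dvd_card_of_card_sylow h21
    have h4 : 0 < Nat.card G := Nat.card_pos
    have := Nat.le_of_dvd h4 h3
    omega
  · have hx : g ∈ f.ker := by rw [h]; trivial
    rw [MonoidHom.mem_ker] at hx
    exact hx

/-- The fixed points of an element centralizing a Sylow `5`-subgroup number `1` modulo `5`. -/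
theorem card_fixedBy_modEq_one (P : Sylow 5 G) (u : G)
    (hu : u ∈ centralizer ((P : Subgroup G) : Set G)) :
    Nat.card (fixedBy (Sylow 5 G) u) ≡ 1 [MOD 5] := by
  let X : SubMulAction ↥(P : Subgroup G) (Sylow 5 G) :=
    { carrier := fixedBy (Sylow 5 G) u
      smul_mem' := by
        intro c Q hQ
        rw [MulAction.mem_fixedBy] at hQ ⊢
        rw [Subgroup.smul_def, smul_smul, ← (Subgroup.mem_centralizer_iff.mp hu) c c.2,
          ← smul_smul, hQ] }
  have hmod := P.2.card_modEq_card_fixedPoints (↥X)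
  have h1 : Nat.card ↥X = Nat.card (fixedBy (Sylow 5 G) u) := rfl
  have hPmem : P ∈ fixedBy (Sylow 5 G) u := by
    rw [MulAction.mem_fixedBy, Sylow.smul_eq_iff_mem_normalizer]
    exact Subgroup.centralizer_le_normalizer _ hu
  have h2 : Nat.card (fixedPoints ↥(P : Subgroup G) ↥X) = 1 := by
    have key : ∀ z : fixedPoints ↥(P : Subgroup G) ↥X, ((z : ↥X) : Sylow 5 G) = P := by
      rintro ⟨⟨Q, hQ⟩, hQf⟩
      have : Q ∈ fixedPoints ↥(P : Subgroup G) (Sylow 5 G) := by
        intro c
        have := hQf c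
        exact congrArg (fun z : ↥X => (z : Sylow 5 G)) this
      rw [P.2.sylow_mem_fixedPoints_iff] at this
      exact Sylow.ext (P.is_maximal' Q.2 this)
    rw [Nat.card_eq_one_iff_unique]
    refine ⟨⟨fun a b => ?_⟩, ⟨⟨⟨P, hPmem⟩, ?_⟩⟩⟩
    · apply Subtype.ext
      apply Subtype.ext
      rw [key a, key b]
    · intro c
      apply Subtype.ext
      show ((c : G) • P : Sylow 5 G) = P
      rw [Sylow.smul_eq_iff_mem_normalizer]
      exact Subgroup.le_normalizer c.2
  rw [h1, h2] at hmod
  exact hmod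

/-- **Key lemma.** In a simple group with `21` Sylow `5`-subgroups, an involution centralizing
a Sylow `5`-subgroup `P` normalizes no other Sylow `5`-subgroup. -/
theorem eq_of_smul_eq_of_involution [IsSimpleGroup G] (h21 : Nat.card (Sylow 5 G) = 21)
    (P : Sylow 5 G) (u : G) (hu : u ∈ centralizer ((P : Subgroup G) : Set G))
    (h2 : orderOf u = 2) (R : Sylow 5 G) (hR : u • R = R) : R = P := by
  classical
  have := Fintype.ofFinite (Sylow 5 G)
  have hu2 : u ^ 2 = 1 := by rw [← h2]; exact pow_orderOf_eq_one u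
  have hmod := card_fixedBy_modEq_one P u hu
  obtain ⟨t, ht⟩ := card_fixedBy_add (X := Sylow 5 G) u hu2 (sign_toPerm_eq_one h21 u)
  rw [← Nat.card_eq_fintype_card, h21] at ht
  have hc : Nat.card (fixedBy (Sylow 5 G) u) = 1 ∨ Nat.card (fixedBy (Sylow 5 G) u) = 21 := by
    unfold Nat.ModEq at hmod
    omega
  rcases hc with hc | hc
  · rw [Nat.card_eq_one_iff_unique] at hc
    obtain ⟨hs, _⟩ := hc
    have hPmem : P ∈ fixedBy (Sylow 5 G) u := by
      rw [MulAction.mem_fixedBy, Sylow.smul_eq_iff_mem_normalizer]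
      exact Subgroup.centralizer_le_normalizer _ hu
    have hRmem : R ∈ fixedBy (Sylow 5 G) u := hR
    have := hs.elim (⟨R, hRmem⟩ : fixedBy (Sylow 5 G) u) ⟨P, hPmem⟩
    exact congrArg Subtype.val this
  · exfalso
    have huniv : fixedBy (Sylow 5 G) u = Set.univ := by
      rw [Set.eq_univ_iff_ncard, ← Nat.card_coe_set_eq, hc, h21]
    have h1 : u = 1 := by
      apply eq_one_of_forall_smul h21
      intro Q
      have : Q ∈ fixedBy (Sylow 5 G) u := by rw [huniv]; trivial
      exact this
    rw [h1, orderOf_one] at h2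
    omega

end Cfsg.Agent.Lib.Helper23.N21
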