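import Mathlib
import Cfsg.Agent.Lib.Helper23.N21.Fix
import Cfsg.Agent.Lib.Helper23.SylowInter
import Cfsg.Agent.Lib.Helper77.SimpleSylow

namespace Cfsg.Agent.Lib.Helper23.N21

open MulAction Subgroup

attribute [local instance] fact5

variable {G : Type*} [Group G] [Finite G]

theorem stabilizer_eq_subgroupOf (P Q : Sylow 5 G) :
    stabilizer ↥(P : Subgroup G) Q = (Q : Subgroup G).subgroupOf (P : Subgroup G) := by
  ext x
  rw [mem_stabilizer_iff, Subgroup.mem_subgroupOf, Subgroup.smul_def,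
    Sylow.smul_eq_iff_mem_normalizer]
  have key := P.2.inf_normalizer_sylow Q
  constructor
  · intro h
    have h1 : (x : G) ∈ (P : Subgroup G) ⊓ normalizer (Q : Set G) := ⟨x.2, h⟩
    rw [key] at h1
    exact h1.2
  · intro h
    have h1 : (x : G) ∈ (P : Subgroup G) ⊓ normalizer (Q : Set G) := by
      rw [key]; exact ⟨x.2, h⟩
    exact h1.2

/-- With `21` Sylow `5`-subgroups, a Sylow `5`-subgroup has orbits of length `5` on the others. -/
theorem ncard_orbit_eq_five (h21 : Nat.card (Sylow 5 G) = 21) (P Q : Sylow 5 G) (hne : P ≠ Q) :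
    (orbit ↥(P : Subgroup G) Q).ncard = 5 := by
  have hidx := MulAction.index_stabilizer ↥(P : Subgroup G) Q
  obtain ⟨k, hk⟩ := (IsPGroup.iff_card.mp P.2)
  have hdvd : (orbit ↥(P : Subgroup G) Q).ncard ∣ 5 ^ k := by
    rw [← hidx, ← hk]
    exact Subgroup.index_dvd_card _
  obtain ⟨a, ha, hna⟩ := (Nat.dvd_prime_pow (by norm_num : Nat.Prime 5)).mp hdvd
  have hPnot : P ∉ orbit ↥(P : Subgroup G) Q := by
    rintro ⟨x, hx⟩
    apply hne
    have hx' : (x : G) • Q = P := hx
    have h2 : (x : G)⁻¹ • P = P := by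
      rw [Sylow.smul_eq_iff_mem_normalizer]
      exact Subgroup.le_normalizer (inv_mem x.2)
    have h1 : (x : G)⁻¹ • ((x : G) • Q) = (x : G)⁻¹ • P := congrArg _ hx'
    rw [smul_smul, inv_mul_cancel, one_smul, h2] at h1
    exact h1.symm
  have hle : (orbit ↥(P : Subgroup G) Q).ncard ≤ 20 := by
    have hsub : orbit ↥(P : Subgroup G) Q ⊆ ({P} : Set (Sylow 5 G))ᶜ := by
      intro R hR
      rw [Set.mem_compl_iff, Set.mem_singleton_iff]
      rintro rfl
      exact hPnot hR
    have h1 := Set.ncard_le_ncard hsub (Set.toFinite _)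
    rw [Set.ncard_compl, Set.ncard_singleton, h21] at h1
    exact h1
  have ha0 : a ≠ 0 := by
    rintro rfl
    rw [pow_zero] at hna
    rw [hna] at hidx
    have htop : stabilizer ↥(P : Subgroup G) Q = ⊤ := Subgroup.index_eq_one.mp hidx
    apply hne
    have hfix : Q ∈ fixedPoints ↥(P : Subgroup G) (Sylow 5 G) := by
      intro c
      have : c ∈ stabilizer ↥(P : Subgroup G) Q := by rw [htop]; trivial
      exact this
    rw [P.2.sylow_mem_fixedPoints_iff] at hfix
    exact (Sylow.ext (P.is_maximal' Q.2 hfix)).symm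
  rw [hna] at hle ⊢
  have ha2 : a < 2 := by
    by_contra h
    have : 5 ^ 2 ≤ 5 ^ a := Nat.pow_le_pow_right (by norm_num) (by omega)
    omega
  have : a = 1 := by omega
  rw [this, pow_one]

/-- With `21` Sylow `5`-subgroups, two distinct ones meet in a subgroup of index `5`. -/
theorem card_inf_mul_five (h21 : Nat.card (Sylow 5 G) = 21) (P Q : Sylow 5 G) (hne : P ≠ Q) :
    Nat.card ↥((P : Subgroup G) ⊓ Q) * 5 = Nat.card ↥(P : Subgroup G) := by
  have h1 := card_inf_mul_index_subgroupOf (P : Subgroup G) (Q : Subgroup G)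
  rw [← stabilizer_eq_subgroupOf, MulAction.index_stabilizer, ncard_orbit_eq_five h21 P Q hne]
    at h1
  exact h1

/-- a Sylow subgroup is not in the orbit of another one under its own action -/
theorem not_mem_orbit (P Q : Sylow 5 G) (hne : P ≠ Q) : P ∉ orbit ↥(P : Subgroup G) Q := by
  rintro ⟨x, hx⟩
  apply hne
  have hx' : (x : G) • Q = P := hx
  have h2 : (x : G)⁻¹ • P = P := by
    rw [Sylow.smul_eq_iff_mem_normalizer]
    exact Subgroup.le_normalizer (inv_mem x.2)
  have h1 : (x : G)⁻¹ • ((x : G) • Q) = (x : G)⁻¹ • P := congrArg _ hx'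
  rw [smul_smul, inv_mul_cancel, one_smul, h2] at h1
  exact h1.symm

/-- With `21` Sylow `5`-subgroups, the intersection of two of them is normal in each. -/
theorem conj_mem_inf (h21 : Nat.card (Sylow 5 G) = 21) (P Q : Sylow 5 G) (hne : P ≠ Q)
    (x g : G) (hx : x ∈ (P : Subgroup G)) (hg : g ∈ (P : Subgroup G) ⊓ Q) :
    x * g * x⁻¹ ∈ (P : Subgroup G) ⊓ Q := by
  have hidx : ((Q : Subgroup G).subgroupOf (P : Subgroup G)).index = 5 := by
    rw [← stabilizer_eq_subgroupOf, MulAction.index_stabilizer, ncard_orbit_eq_five h21 P Q hne]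
  obtain ⟨k, hk⟩ := (IsPGroup.iff_card.mp P.2)
  have hk0 : k ≠ 0 := by
    rintro rfl
    have := Subgroup.index_dvd_card ((Q : Subgroup G).subgroupOf (P : Subgroup G))
    rw [hidx, hk, pow_zero] at this
    omega
  have hnorm : ((Q : Subgroup G).subgroupOf (P : Subgroup G)).Normal := by
    apply Subgroup.normal_of_index_eq_minFac_card
    rw [hidx, hk, Nat.pow_minFac hk0]
    exact (Nat.Prime.minFac_eq (by norm_num : Nat.Prime 5)).symm
  obtain ⟨hg1, hg2⟩ := Subgroup.mem_inf.mp hg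
  have hmem : (⟨g, hg1⟩ : ↥(P : Subgroup G)) ∈ (Q : Subgroup G).subgroupOf (P : Subgroup G) := by
    rw [Subgroup.mem_subgroupOf]; exact hg2
  have := hnorm.conj_mem _ hmem ⟨x, hx⟩
  rw [Subgroup.mem_subgroupOf] at this
  exact Subgroup.mem_inf.mpr ⟨(P : Subgroup G).mul_mem ((P : Subgroup G).mul_mem hx hg1)
    ((P : Subgroup G).inv_mem hx), this⟩

theorem mem_smul_sylow_iff (x g : G) (R : Sylow 5 G) :
    g ∈ ((x • R : Sylow 5 G) : Subgroup G) ↔ x⁻¹ * g * x ∈ (R : Subgroup G) := by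
  rw [Sylow.coe_subgroup_smul, Subgroup.mem_pointwise_smul_iff_inv_smul_mem]
  simp [MulAut.smul_def]

/-- for `x ∈ P`, the intersection of `P` with `x • R` is that with `R` -/
theorem inf_smul_eq (h21 : Nat.card (Sylow 5 G) = 21) (P R : Sylow 5 G) (hne : P ≠ R)
    (x : G) (hx : x ∈ (P : Subgroup G)) :
    (P : Subgroup G) ⊓ ((x • R : Sylow 5 G) : Subgroup G) = (P : Subgroup G) ⊓ R := by
  ext g
  rw [Subgroup.mem_inf, Subgroup.mem_inf, mem_smul_sylow_iff]
  constructor
  · rintro ⟨h1, h2⟩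
    have h3 : x⁻¹ * g * x ∈ (P : Subgroup G) ⊓ R :=
      Subgroup.mem_inf.mpr ⟨(P : Subgroup G).mul_mem ((P : Subgroup G).mul_mem
        ((P : Subgroup G).inv_mem hx) h1) hx, h2⟩
    have h4 := conj_mem_inf h21 P R hne x _ hx h3
    have h5 : x * (x⁻¹ * g * x) * x⁻¹ = g := by group
    rw [h5] at h4
    exact ⟨h1, (Subgroup.mem_inf.mp h4).2⟩
  · rintro ⟨h1, h2⟩
    have h4 := conj_mem_inf h21 P R hne x⁻¹ g ((P : Subgroup G).inv_mem hx)
      (Subgroup.mem_inf.mpr ⟨h1, h2⟩)
    rw [inv_inv] at h4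
    exact ⟨h1, (Subgroup.mem_inf.mp h4).2⟩

/-- **Order of the Sylow `5`-subgroups.** In a simple group with `21` Sylow `5`-subgroups these
have order `5`. -/
theorem card_sylow_eq_five [IsSimpleGroup G] (h21 : Nat.card (Sylow 5 G) = 21) (P : Sylow 5 G) :
    Nat.card ↥(P : Subgroup G) = 5 := by
  classical
  have := Fintype.ofFinite (Sylow 5 G)
  obtain ⟨Q, hQ⟩ : ∃ Q : Sylow 5 G, P ≠ Q := by
    by_contra h
    push Not at h
    have : Nat.card (Sylow 5 G) = 1 := by
      rw [Nat.card_eq_one_iff_unique]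
      exact ⟨⟨fun a b => (h a).symm.trans (h b)⟩, ⟨P⟩⟩
    omega
  set D : Subgroup G := (P : Subgroup G) ⊓ Q with hD
  have hcardD : Nat.card D * 5 = Nat.card ↥(P : Subgroup G) := card_inf_mul_five h21 P Q hQ
  by_contra hne5
  have hDne : D ≠ ⊥ := by
    intro h
    rw [h, Subgroup.card_bot] at hcardD
    omega
  have hcard : ∀ R : Sylow 5 G, Nat.card ↥(R : Subgroup G) = Nat.card ↥(P : Subgroup G) := by
    intro R
    rw [Sylow.card_eq_multiplicity, Sylow.card_eq_multiplicity]
  have hint : ∀ R R' : Sylow 5 G, R ≠ R' →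
      Nat.card ↥((R : Subgroup G) ⊓ R') = Nat.card D := by
    intro R R' h
    have := card_inf_mul_five h21 R R' h
    rw [hcard R] at this
    omega
  obtain ⟨R₀, hR₀⟩ : ∃ R₀ : Sylow 5 G, ¬ D ≤ R₀ := by
    by_contra h
    push Not at h
    exact hDne (Cfsg.Agent.Lib.Helper77.eq_bot_of_le_all_sylow 5 (by omega) D h)
  have hi : ∀ R R' : Sylow 5 G, D ≤ R → D ≤ R' → R ≠ R' → (R : Subgroup G) ⊓ R' = D := by
    intro R R' h1 h2 h
    symm
    apply Subgroup.eq_of_le_of_card_ge (le_inf h1 h2)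
    rw [hint R R' h]
  have hii : ∀ R R' : Sylow 5 G, D ≤ R → D ≤ R' →
      (R₀ : Subgroup G) ⊓ R = (R₀ : Subgroup G) ⊓ R' → R = R' := by
    intro R R' h1 h2 heq
    by_contra h
    apply hR₀
    have hR₀R : R₀ ≠ R := by rintro rfl; exact hR₀ h1
    have hle : (R₀ : Subgroup G) ⊓ R ≤ D := by
      rw [← hi R R' h1 h2 h]
      refine le_inf inf_le_right ?_
      rw [heq]
      exact inf_le_right
    have heqD : (R₀ : Subgroup G) ⊓ R = D :=
      Subgroup.eq_of_le_of_card_ge hle (by rw [hint R₀ R hR₀R])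
    rw [← heqD]
    exact inf_le_left
  have hiv : ∀ x : ↥(P : Subgroup G), D ≤ ((x : G) • Q : Sylow 5 G) := by
    intro x
    have := inf_smul_eq h21 P Q hQ x x.2
    rw [hD, ← this]
    exact inf_le_right
  -- counting
  let f : Sylow 5 G → Subgroup G := fun R => (R₀ : Subgroup G) ⊓ R
  let s : Finset (Sylow 5 G) := Finset.univ.erase R₀
  have hs : s.card = 20 := by
    rw [Finset.card_erase_of_mem (Finset.mem_univ _), Finset.card_univ,
      ← Nat.card_eq_fintype_card, h21]
  have hfib : ∀ b ∈ s.image f, 5 ≤ (s.filter (fun a => f a = b)).card := by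
    intro b hb
    obtain ⟨R, hR, rfl⟩ := Finset.mem_image.mp hb
    have hRne : R₀ ≠ R := (Finset.ne_of_mem_erase hR).symm
    have h5 : (orbit ↥(R₀ : Subgroup G) R).toFinset.card = 5 := by
      rw [← Set.ncard_eq_toFinset_card', ncard_orbit_eq_five h21 R₀ R hRne]
    refine h5.symm.le.trans ?_
    apply Finset.card_le_card
    intro R' hR'
    rw [Set.mem_toFinset] at hR'
    rw [Finset.mem_filter]
    refine ⟨Finset.mem_erase.mpr ⟨?_, Finset.mem_univ _⟩, ?_⟩
    · rintro rfl
      exact not_mem_orbit R' R hRne hR'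
    · obtain ⟨x, rfl⟩ := hR'
      exact inf_smul_eq h21 R₀ R hRne x x.2
  have h1 := Finset.mul_card_image_le_card s 5 hfib
  let B : Finset (Sylow 5 G) := insert P (orbit ↥(P : Subgroup G) Q).toFinset
  have hBcard : B.card = 6 := by
    rw [Finset.card_insert_of_notMem, ← Set.ncard_eq_toFinset_card',
      ncard_orbit_eq_five h21 P Q hQ]
    rw [Set.mem_toFinset]
    exact not_mem_orbit P Q hQ
  have hBD : ∀ R ∈ B, D ≤ R := by
    intro R hR
    rcases Finset.mem_insert.mp hR with rfl | hR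
    · exact inf_le_left
    · rw [Set.mem_toFinset] at hR
      obtain ⟨x, rfl⟩ := hR
      exact hiv x
  have hBs : B ⊆ s := by
    intro R hR
    refine Finset.mem_erase.mpr ⟨?_, Finset.mem_univ _⟩
    rintro rfl
    exact hR₀ (hBD _ hR)
  have hinj : Set.InjOn f (B : Set (Sylow 5 G)) := by
    intro R hR R' hR' heq
    exact hii R R' (hBD R hR) (hBD R' hR') heq
  have h2 : (B.image f).card = 6 := by
    rw [Finset.card_image_of_injOn hinj, hBcard]
  have h3 : (B.image f).card ≤ (s.image f).card :=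
    Finset.card_le_card (Finset.image_subset_image hBs)
  omega

end Cfsg.Agent.Lib.Helper23.N21
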