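import Mathlib

namespace Cfsg.Agent.Lib.Helper23.N21

open MulAction Subgroup

/-- A fusion form of `MonoidHom.transfer_eq_pow`: if every conjugate of a power `g ^ k` lying
in `H` is sent by `ϕ` to `c ^ k`, then the transfer of `g` is `c ^ [G : H]`. -/
theorem transfer_eq_pow_of_fusion {G : Type*} [Group G] {H : Subgroup G} {A : Type*}
    [CommGroup A] (ϕ : H →* A) [H.FiniteIndex] (g : G) (c : A)
    (key : ∀ (k : ℕ) (g₀ : G) (hk : g₀⁻¹ * g ^ k * g₀ ∈ H), ϕ ⟨g₀⁻¹ * g ^ k * g₀, hk⟩ = c ^ k) :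
    MonoidHom.transfer ϕ g = c ^ H.index := by
  classical
  let := H.fintypeQuotientOfFiniteIndex
  rw [MonoidHom.transfer_eq_prod_quotient_orbitRel_zpowers_quot]
  simp_rw [key]
  rw [Finset.prod_pow_eq_pow_sum, ← index_eq_sum_minimalPeriod H g]

end Cfsg.Agent.Lib.Helper23.N21
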