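import Mathlib
import Cfsg.Agent.Lib.Helper23.N21.Order
import Cfsg.Agent.Lib.Helper23.N21.TransferFusion
import Cfsg.Agent.Lib.Helper23.Burnside

namespace Cfsg.Agent.Lib.Helper23.N21

open MulAction Subgroup

attribute [local instance] fact5

variable {G : Type*} [Group G] [Finite G]

/-- the centralizer of a conjugate Sylow subgroup -/
theorem mem_centralizer_smul_iff (g w : G) (Q : Sylow 5 G) :
    w ∈ centralizer (((g • Q : Sylow 5 G) : Subgroup G) : Set G) ↔
      g⁻¹ * w * g ∈ centralizer ((Q : Subgroup G) : Set G) := by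
  rw [mem_centralizer_iff, mem_centralizer_iff]
  constructor
  · intro h x hx
    have hx' : g * x * g⁻¹ ∈ ((g • Q : Sylow 5 G) : Subgroup G) := by
      rw [mem_smul_sylow_iff]
      have : g⁻¹ * (g * x * g⁻¹) * g = x := by group
      rw [this]
      exact hx
    have := h _ hx'
    calc x * (g⁻¹ * w * g) = g⁻¹ * ((g * x * g⁻¹) * w) * g := by group
      _ = g⁻¹ * (w * (g * x * g⁻¹)) * g := by rw [this]
      _ = g⁻¹ * w * g * x := by group
  · intro h x hx
    have hx2 : x ∈ ((g • Q : Sylow 5 G) : Subgroup G) := hx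
    rw [mem_smul_sylow_iff] at hx2
    have := h _ hx2
    calc x * w = g * ((g⁻¹ * x * g) * (g⁻¹ * w * g)) * g⁻¹ := by group
      _ = g * ((g⁻¹ * w * g) * (g⁻¹ * x * g)) * g⁻¹ := by rw [this]
      _ = w * x := by group

/-- **No fusion.** In a simple group with `21` Sylow `5`-subgroups, a `2`-element that
centralizes a Sylow `5`-subgroup `Q` and normalizes a Sylow `5`-subgroup `R` centralizes `R`. -/
theorem mem_centralizer_of_mem_centralizer [IsSimpleGroup G] (h21 : Nat.card (Sylow 5 G) = 21)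
    (Q R : Sylow 5 G) (w : G) (s : ℕ) (hw : orderOf w = 2 ^ s)
    (hQ : w ∈ centralizer ((Q : Subgroup G) : Set G)) (hR : w • R = R) :
    w ∈ centralizer ((R : Subgroup G) : Set G) := by
  rcases Nat.eq_zero_or_pos s with rfl | hs
  · rw [pow_zero, orderOf_eq_one_iff] at hw
    rw [hw]
    exact one_mem _
  · have h2 : orderOf (w ^ 2 ^ (s - 1)) = 2 := by
      rw [orderOf_pow_of_dvd (by positivity) (by rw [hw]; exact pow_dvd_pow 2 (by omega)), hw,
        Nat.pow_div (by omega) (by norm_num)]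
      have : s - (s - 1) = 1 := by omega
      rw [this, pow_one]
    have hQ₀ : w ^ 2 ^ (s - 1) ∈ centralizer ((Q : Subgroup G) : Set G) := pow_mem hQ _
    have hR₀ : (w ^ 2 ^ (s - 1)) • R = R := by
      have : w ∈ stabilizer G R := hR
      exact (stabilizer G R).pow_mem this _
    have := eq_of_smul_eq_of_involution h21 Q _ hQ₀ h2 R hR₀
    rw [this]
    exact hQ

/-- **No simple group has exactly `21` Sylow `5`-subgroups.** -/
theorem false_of_card_sylow [IsSimpleGroup G] (h21 : Nat.card (Sylow 5 G) = 21) : False := by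
  classical
  obtain ⟨P⟩ : Nonempty (Sylow 5 G) := inferInstance
  have h5 := card_sylow_eq_five h21 P
  have hnc : ¬ IsMulCommutative G := by
    intro hc
    have hall : ∀ g : G, g • P = P := by
      intro g
      rw [Sylow.smul_eq_iff_mem_normalizer]
      show g ∈ normalizer ((P : Subgroup G) : Set G)
      rw [mem_normalizer_iff]
      intro h
      have : g * h * g⁻¹ = h := by
        rw [hc.is_comm.comm g h, mul_inv_cancel_right]
      rw [this]
    have : Nat.card (Sylow 5 G) = 1 := by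
      rw [Nat.card_eq_one_iff_unique]
      refine ⟨⟨fun a b => ?_⟩, ⟨P⟩⟩
      obtain ⟨x, rfl⟩ := MulAction.exists_smul_eq G P a
      obtain ⟨y, rfl⟩ := MulAction.exists_smul_eq G P b
      rw [hall x, hall y]
    omega
  have hdvd : 5 ∣ Nat.card G := by
    rw [← h5]
    exact Subgroup.card_subgroup_dvd_card _
  have hNC : ¬ normalizer ((P : Subgroup G) : Set G) ≤ centralizer ((P : Subgroup G) : Set G) :=
    fun h => false_of_normalizer_le_centralizer hnc 5 hdvd P h
  obtain ⟨a₀, ha₀N, ha₀C⟩ := SetLike.not_le_iff_exists.mp hNC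
  have : IsCyclic ↥(P : Subgroup G) := isCyclic_of_prime_card h5
  have : Fact (Nat.card ↥(P : Subgroup G)).Prime := ⟨by rw [h5]; norm_num⟩
  let χ : ↥(normalizer ((P : Subgroup G) : Set G)) →* (ZMod (Nat.card ↥(P : Subgroup G)))ˣ :=
    (IsCyclic.mulAutMulEquiv ↥(P : Subgroup G)).toMonoidHom.comp
      (P : Subgroup G).normalizerMonoidHom
  have hχ1 : ∀ a, χ a = 1 ↔ (a : G) ∈ centralizer ((P : Subgroup G) : Set G) := by
    intro a
    have : χ a = 1 ↔ a ∈ (P : Subgroup G).normalizerMonoidHom.ker := by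
      rw [MonoidHom.mem_ker]
      show (IsCyclic.mulAutMulEquiv ↥(P : Subgroup G)) _ = 1 ↔ _
      rw [MulEquiv.map_eq_one_iff]
    rw [this, Subgroup.normalizerMonoidHom_ker, Subgroup.mem_subgroupOf]
  have hχ4 : ∀ a, χ a ^ 4 = 1 := by
    intro a
    have hc : Nat.card (ZMod (Nat.card ↥(P : Subgroup G)))ˣ = 4 := by
      rw [Nat.card_eq_fintype_card, ZMod.card_units_eq_totient, h5]
      decide
    rw [← hc]
    exact pow_card_eq_one'
  have hχ3 : ∀ x y : (ZMod (Nat.card ↥(P : Subgroup G)))ˣ,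
      x ^ 2 = 1 → y ^ 2 = 1 → x ≠ 1 → y ≠ 1 → x = y := by
    intro x y hx hy hx1 hy1
    by_contra hxy
    have hle := IsCyclic.card_pow_eq_one_le (α := (ZMod (Nat.card ↥(P : Subgroup G)))ˣ)
      (n := 2) (by norm_num)
    have hsub : ({1, x, y} : Finset (ZMod (Nat.card ↥(P : Subgroup G)))ˣ) ⊆
        Finset.univ.filter (fun a => a ^ 2 = 1) := by
      intro z hz
      simp only [Finset.mem_insert, Finset.mem_singleton] at hz
      rw [Finset.mem_filter]
      refine ⟨Finset.mem_univ _, ?_⟩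
      rcases hz with rfl | rfl | rfl
      · exact one_pow 2
      · exact hx
      · exact hy
    have h3 : ({1, x, y} : Finset (ZMod (Nat.card ↥(P : Subgroup G)))ˣ).card = 3 := by
      rw [Finset.card_eq_three]
      exact ⟨1, x, y, fun h => hx1 h.symm, fun h => hy1 h.symm, hxy, rfl⟩
    have := Finset.card_le_card hsub
    omega
  obtain ⟨j, hj1, hj2⟩ : ∃ j : ℕ, (∀ a, χ a ^ (2 * j) = 1) ∧ (∃ a, χ a ^ j ≠ 1) := by
    by_cases h : ∃ a, χ a ^ 2 ≠ 1
    · exact ⟨2, fun a => hχ4 a, h⟩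
    · push Not at h
      refine ⟨1, fun a => by simpa using h a, ⟨⟨a₀, ha₀N⟩, ?_⟩⟩
      rw [pow_one, Ne, hχ1]
      exact ha₀C
  let ψ : ↥(normalizer ((P : Subgroup G) : Set G)) →* (ZMod (Nat.card ↥(P : Subgroup G)))ˣ :=
    (powMonoidHom j).comp χ
  have hψ : ∀ a, ψ a = χ a ^ j := fun a => rfl
  have hψ2 : ∀ a, ψ a ^ 2 = 1 := by
    intro a
    rw [hψ, ← pow_mul, mul_comm]
    exact hj1 a
  obtain ⟨a, ha⟩ := hj2
  obtain ⟨s, m, hm, hsm⟩ := Nat.exists_eq_two_pow_mul_odd (orderOf_pos a).ne'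
  have hy : orderOf (a ^ m) = 2 ^ s := by
    rw [orderOf_pow_of_dvd hm.pos.ne' ⟨2 ^ s, by rw [hsm]; ring⟩, hsm,
      Nat.mul_div_cancel _ hm.pos]
  have hψy : ψ (a ^ m) = ψ a := by
    rw [map_pow]
    obtain ⟨t, rfl⟩ := hm
    rw [pow_succ, pow_mul, hψ2, one_pow, one_mul]
  have hψy1 : ψ (a ^ m) ≠ 1 := by
    rw [hψy]
    exact ha
  set y : ↥(normalizer ((P : Subgroup G) : Set G)) := a ^ m with hydef
  have key : ∀ (k : ℕ) (g₀ : G)
      (hk : g₀⁻¹ * (y : G) ^ k * g₀ ∈ normalizer ((P : Subgroup G) : Set G)),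
      ψ ⟨g₀⁻¹ * (y : G) ^ k * g₀, hk⟩ = ψ y ^ k := by
    intro k g₀ hk
    rw [← map_pow]
    have hiff : ψ ⟨g₀⁻¹ * (y : G) ^ k * g₀, hk⟩ = 1 ↔ ψ (y ^ k) = 1 := by
      rw [hψ, hψ, ← map_pow, ← map_pow, hχ1, hχ1]
      have hw' : (((⟨g₀⁻¹ * (y : G) ^ k * g₀, hk⟩ :
          ↥(normalizer ((P : Subgroup G) : Set G))) ^ j : ↥(normalizer ((P : Subgroup G) : Set G))) : G)
          = g₀⁻¹ * (y : G) ^ (k * j) * g₀ := by
        have hcp : ∀ (g x : G) (n : ℕ), (g⁻¹ * x * g) ^ n = g⁻¹ * x ^ n * g := by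
          intro g x n
          have := conj_pow (a := g⁻¹) (b := x) (i := n)
          rwa [inv_inv] at this
        rw [Subgroup.coe_pow, Subgroup.coe_mk, hcp, pow_mul]
      have hw : (((y ^ k) ^ j : ↥(normalizer ((P : Subgroup G) : Set G))) : G)
          = (y : G) ^ (k * j) := by
        rw [Subgroup.coe_pow, Subgroup.coe_pow, pow_mul]
      have hmemN : g₀⁻¹ * (y : G) ^ (k * j) * g₀ ∈ normalizer ((P : Subgroup G) : Set G) := by
        rw [← hw']
        exact SetLike.coe_mem _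
      rw [hw', hw, ← mem_centralizer_smul_iff]
      have hwN : (y : G) ^ (k * j) ∈ normalizer ((P : Subgroup G) : Set G) :=
        pow_mem y.2 _
      have hwP : ((y : G) ^ (k * j)) • P = P := Sylow.smul_eq_iff_mem_normalizer.mpr hwN
      have hwR : ((y : G) ^ (k * j)) • (g₀ • P) = g₀ • P := by
        have h1 : (g₀⁻¹ * (y : G) ^ (k * j) * g₀) • P = P :=
          Sylow.smul_eq_iff_mem_normalizer.mpr hmemN
        rw [mul_smul, mul_smul] at h1
        calc ((y : G) ^ (k * j)) • (g₀ • P)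
            = g₀ • (g₀⁻¹ • (((y : G) ^ (k * j)) • (g₀ • P))) := (smul_inv_smul g₀ _).symm
          _ = g₀ • P := by rw [h1]
      obtain ⟨s', hs'⟩ : ∃ s', orderOf ((y : G) ^ (k * j)) = 2 ^ s' := by
        have h1 : orderOf ((y : G) ^ (k * j)) ∣ 2 ^ s := by
          rw [← hy, ← Subgroup.orderOf_coe]
          exact orderOf_pow_dvd _
        obtain ⟨s', _, hs'⟩ := (Nat.dvd_prime_pow Nat.prime_two).mp h1
        exact ⟨s', hs'⟩
      exact ⟨fun h => mem_centralizer_of_mem_centralizer h21 (g₀ • P) P _ s' hs' h hwP,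
        fun h => mem_centralizer_of_mem_centralizer h21 P (g₀ • P) _ s' hs' h hwR⟩
    by_cases h1 : ψ (y ^ k) = 1
    · rw [h1, hiff.mpr h1]
    · exact hχ3 _ _ (hψ2 _) (hψ2 _) (fun h => h1 (hiff.mp h)) h1
  have htr := transfer_eq_pow_of_fusion ψ (y : G) (ψ y) key
  have hidx : (normalizer ((P : Subgroup G) : Set G)).index = 21 := by
    have := Sylow.card_eq_index_normalizer P
    rw [h21] at this
    exact this.symm
  rw [hidx] at htr
  have h21' : ψ y ^ 21 = ψ y := by
    have : ψ y ^ 21 = (ψ y ^ 2) ^ 10 * ψ y := by rw [← pow_mul, ← pow_succ]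
    rw [this, hψ2, one_pow, one_mul]
  rw [h21'] at htr
  have hn : (MonoidHom.transfer ψ).ker.Normal := MonoidHom.normal_ker _
  rcases hn.eq_bot_or_eq_top with h | h
  · apply hnc
    refine ⟨⟨fun a b => ?_⟩⟩
    apply (MonoidHom.ker_eq_bot_iff _).mp h
    rw [map_mul, map_mul, mul_comm]
  · have : (y : G) ∈ (MonoidHom.transfer ψ).ker := by rw [h]; trivial
    rw [MonoidHom.mem_ker, htr] at this
    exact hψy1 this

end Cfsg.Agent.Lib.Helper23.N21
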